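import Cfsg.Agent.Lib.H17.G2J2.Iso
import Cfsg.Agent.Lib.H17.ExtPrimT

set_option autoImplicit false
set_option maxRecDepth 100000

/-! # `J` is maximal in `K`, and the intersections of `J` with its conjugates under `K` are
maximal in `J` -/

namespace Cfsg.Agent.Lib.H17.G2J2

open Cfsg.Spor Cfsg.Agent.Lib.H17.CosetCert Cfsg.Agent.Lib.H17.CoxGlue Cfsg.Agent.Lib.H17.SuzGlue
  Cfsg.Agent.Lib.H17.SuzG24 Cfsg.Agent.Lib.H17.Masks Cfsg.Agent.Lib.H17.ExtPrim MulAction

attribute [local instance] actInst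

theorem q1_ne_p : q1 ≠ p := by decide

theorem J_ne_K : J ≠ K := by
  intro h
  have h1 : q1 ∈ {i : Fin 1782 | ∃ g ∈ K, g • p = i} := by
    rw [orbit_K_p]
    exact obase0
  obtain ⟨g, hg, hgp⟩ := h1
  rw [← h] at hg
  have := J_fix hg
  rw [mem_stabilizer_iff] at this
  rw [this] at hgp
  exact q1_ne_p hgp.symm

theorem between_JK (M : Subgroup G) (h1 : J ≤ M) (h2 : M ≤ K) : M = J ∨ M = K := by
  have := between_K M (by rw [← J_eq]; exact h1) h2
  rw [← J_eq] at this
  exact this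

/-- conjugating the point -/
theorem between_conj (A : Subgroup G) (q0 : Fin 1782) (h : G) (hh : h ∈ A)
    (H0 : ∀ M : Subgroup G, A ⊓ stabilizer G q0 ≤ M → M ≤ A → M = A ⊓ stabilizer G q0 ∨ M = A)
    (M : Subgroup G) (h1 : A ⊓ stabilizer G (h • q0) ≤ M) (h2 : M ≤ A) :
    M = A ⊓ stabilizer G (h • q0) ∨ M = A := by
  let M' : Subgroup G := M.comap (MulAut.conj h).toMonoidHom
  have hM' : ∀ g, g ∈ M' ↔ h * g * h⁻¹ ∈ M := fun g => by
    change (MulAut.conj h).toMonoidHom g ∈ M ↔ _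
    simp [MulAut.conj_apply]
  have e1 : A ⊓ stabilizer G q0 ≤ M' := by
    intro g hg
    rw [hM']
    apply h1
    refine Subgroup.mem_inf.mpr ⟨A.mul_mem (A.mul_mem hh hg.1) (A.inv_mem hh), ?_⟩
    rw [mem_stabilizer_iff, mul_smul, mul_smul, inv_smul_smul, mem_stabilizer_iff.mp hg.2]
  have e2 : M' ≤ A := by
    intro g hg
    rw [hM'] at hg
    have := A.mul_mem (A.mul_mem (A.inv_mem hh) (h2 hg)) hh
    have e : h⁻¹ * (h * g * h⁻¹) * h = g := by group
    rwa [e] at this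
  rcases H0 M' e1 e2 with h3 | h3
  · left
    apply le_antisymm _ h1
    intro m hm
    have hm' : h⁻¹ * m * h ∈ M' := by
      rw [hM']
      have e : h * (h⁻¹ * m * h) * h⁻¹ = m := by group
      rwa [e]
    rw [h3] at hm'
    refine Subgroup.mem_inf.mpr ⟨h2 hm, ?_⟩
    have h4 := mem_stabilizer_iff.mp hm'.2
    rw [mem_stabilizer_iff]
    have : m • h • q0 = h • ((h⁻¹ * m * h) • q0) := by
      rw [← mul_smul, ← mul_smul]
      congr 1
      group
    rw [this, h4]
  · right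
    apply le_antisymm h2
    intro a ha
    have ha' : h⁻¹ * a * h ∈ M' := by
      rw [h3]
      exact A.mul_mem (A.mul_mem (A.inv_mem hh) ha) hh
    rw [hM'] at ha'
    have e : h * (h⁻¹ * a * h) * h⁻¹ = a := by group
    rwa [e] at ha'

/-- the conjugate of `J` by an element of `K` is the stabiliser in `K` of the image of `p` -/
theorem J_conj (x : G) (hx : x ∈ K) :
    J.map (MulAut.conj x).toMonoidHom = K ⊓ stabilizer G (x • p) := by
  ext g
  constructor
  · rintro ⟨j, hj, rfl⟩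
    have hj' : j ∈ K ⊓ stabilizer G p := by rw [← J_eq]; exact hj
    simp only [MulEquiv.coe_toMonoidHom, MulAut.conj_apply]
    refine Subgroup.mem_inf.mpr ⟨K.mul_mem (K.mul_mem hx hj'.1) (K.inv_mem hx), ?_⟩
    rw [mem_stabilizer_iff, mul_smul, mul_smul, inv_smul_smul, mem_stabilizer_iff.mp hj'.2]
  · intro hg
    refine ⟨x⁻¹ * g * x, ?_, ?_⟩
    · change x⁻¹ * g * x ∈ J
      rw [J_eq]
      refine Subgroup.mem_inf.mpr ⟨K.mul_mem (K.mul_mem (K.inv_mem hx) hg.1) hx, ?_⟩
      rw [mem_stabilizer_iff, mul_smul, mul_smul, mem_stabilizer_iff.mp hg.2, inv_smul_smul]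
    · simp only [MulEquiv.coe_toMonoidHom, MulAut.conj_apply]
      group

theorem J_inf_conj (x : G) (hx : x ∈ K) :
    J ⊓ J.map (MulAut.conj x).toMonoidHom = J ⊓ stabilizer G (x • p) := by
  rw [J_conj x hx, ← inf_assoc, inf_eq_left.mpr J_le_K]

/-- the stabiliser in `J` of a point of a nontrivial orbit is a proper subgroup -/
theorem stab_ne (q : Fin 1782) (mask : ℕ) (c : ℕ)
    (h : {i : Fin 1782 | ∃ g ∈ J, g • q = i} = {i : Fin 1782 | tb mask i = true})
    (hc : countBits mask 1782 0 = c) (hc1 : c ≠ 1) : J ⊓ stabilizer G q ≠ J := by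
  intro he
  have hle : J ≤ stabilizer G q := by
    rw [← he]
    exact inf_le_right
  have h1 : {i : Fin 1782 | ∃ g ∈ J, g • q = i} = {q} := by
    ext i
    constructor
    · rintro ⟨g, hg, rfl⟩
      exact mem_stabilizer_iff.mp (hle hg)
    · rintro rfl
      exact ⟨1, J.one_mem, one_smul _ _⟩
  have h2 := ncard_mask mask 1782
  rw [← h, h1, Set.ncard_singleton, hc] at h2
  exact hc1 h2.symm

/-- the intersection of `J` with a conjugate under `K` -/
theorem between_inf (y : G) (hy : y ∈ K) (hyJ : y ∉ J) :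
    (J ⊓ J.map (MulAut.conj y).toMonoidHom) ≠ J ∧
      ∀ M : Subgroup G, J ⊓ J.map (MulAut.conj y).toMonoidHom ≤ M → M ≤ J →
        M = J ⊓ J.map (MulAut.conj y).toMonoidHom ∨ M = J := by
  rw [J_inf_conj y hy]
  have hq : y • p ≠ p := by
    intro h
    apply hyJ
    rw [J_eq]
    exact Subgroup.mem_inf.mpr ⟨hy, mem_stabilizer_iff.mpr h⟩
  have hqO : tb omask0 (y • p : Fin 1782) = true := by
    have : y • p ∈ {i : Fin 1782 | ∃ g ∈ K, g • p = i} := ⟨y, hy, rfl⟩
    rw [orbit_K_p] at this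
    exact this
  rcases cover_K _ hqO hq with h | h
  · have h1 : y • p ∈ {i : Fin 1782 | ∃ g ∈ J, g • q1 = i} := by
      rw [orbit_J_q1]; exact h
    obtain ⟨g, hg, hgq⟩ := h1
    rw [← hgq]
    refine ⟨stab_ne _ jmask0 100 (orbit_of_mem J q1 _ jmask0 orbit_J_q1 (by rw [hgq]; exact h))
      jcount0 (by decide), ?_⟩
    exact between_conj J q1 g hg between_J1
  · have h1 : y • p ∈ {i : Fin 1782 | ∃ g ∈ J, g • q2 = i} := by
      rw [orbit_J_q2]; exact h
    obtain ⟨g, hg, hgq⟩ := h1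
    rw [← hgq]
    refine ⟨stab_ne _ jmask1 315 (orbit_of_mem J q2 _ jmask1 orbit_J_q2 (by rw [hgq]; exact h))
      jcount1 (by decide), ?_⟩
    exact between_conj J q2 g hg between_J2

end Cfsg.Agent.Lib.H17.G2J2
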