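import Cfsg.Agent.Lib.H17.G2J2.Main

set_option autoImplicit false
set_option maxRecDepth 100000

/-! # The subgroup `J = ⟨a, …, e⟩` of the presented sporadic Suzuki group is the presented
Hall-Janko group, and is the stabiliser in `K` of the point 995 -/

namespace Cfsg.Agent.Lib.H17.G2J2

open Cfsg.Spor Cfsg.Agent.Lib.H17.CosetCert Cfsg.Agent.Lib.H17.CoxGlue Cfsg.Agent.Lib.H17.SuzGlue
  Cfsg.Agent.Lib.H17.SuzG24 Cfsg.Agent.Lib.H17.Masks Cfsg.Agent.Lib.H17.ExtPrim MulAction

attribute [local instance] actInst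

/-- the presented Hall-Janko group -/
abbrev P : Type := Cfsg.Agent.Lib.H17.J2Pres.Grp

/-- the images of the generators of the presented Hall-Janko group -/
noncomputable def fJ (u : Cfsg.Agent.Lib.H17.J2PGlue.Gen) : G :=
  PresentedGroup.of (gen (Cfsg.Agent.Lib.H17.J2PGlue.idx u))

theorem fJ_mul_self (u : Cfsg.Agent.Lib.H17.J2PGlue.Gen) : fJ u * fJ u = 1 := of_mul_self _

theorem relW_sub : ∀ w ∈ Cfsg.Agent.Lib.H17.J2PGlue.relW, w ∈ relW := by decide

theorem relW_lt : ∀ w ∈ Cfsg.Agent.Lib.H17.J2PGlue.relW, ∀ x ∈ w, x < 5 := by decide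

theorem fJ_gen (x : ℕ) (hx : x < 5) :
    fJ (Cfsg.Agent.Lib.H17.J2PGlue.gen x) = PresentedGroup.of (gen x) := by
  interval_cases x <;> rfl

theorem fJ_words : ∀ w ∈ Cfsg.Agent.Lib.H17.J2PGlue.relW,
    ((w.map Cfsg.Agent.Lib.H17.J2PGlue.gen).map fJ).prod = 1 := by
  intro w hw
  have h := relW_trivial w (relW_sub w hw)
  rw [List.map_map] at h ⊢
  rw [← h]
  congr 1
  apply List.map_congr_left
  intro x hx
  exact fJ_gen x (relW_lt w hw x hx)

/-- the homomorphism from the presented Hall-Janko group -/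
noncomputable def toSuz : P →* G :=
  PresentedGroup.toGroup (f := fJ) (Cfsg.Agent.Lib.H17.J2PGlue.lift_rels fJ fJ_mul_self fJ_words)

theorem toSuz_of (u : Cfsg.Agent.Lib.H17.J2PGlue.Gen) : toSuz (PresentedGroup.of u) = fJ u :=
  PresentedGroup.toGroup.of _

theorem range_toSuz : toSuz.range = J := by
  rw [MonoidHom.range_eq_map, ← PresentedGroup.closure_range_of, MonoidHom.map_closure]
  unfold J sub
  congr 1
  ext g
  constructor
  · rintro ⟨_, ⟨u, rfl⟩, rfl⟩
    rw [toSuz_of]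
    refine ⟨[Cfsg.Agent.Lib.H17.J2PGlue.idx u], ?_, ?_⟩
    · cases u <;> simp [jW, Cfsg.Agent.Lib.H17.J2PGlue.idx]
    · rw [e_singleton]; rfl
  · rintro ⟨w, hw, rfl⟩
    simp only [jW, List.mem_cons, List.not_mem_nil, or_false] at hw
    rcases hw with rfl | rfl | rfl | rfl | rfl
    · exact ⟨_, ⟨.a, rfl⟩, by rw [toSuz_of, e_singleton]; rfl⟩
    · exact ⟨_, ⟨.b, rfl⟩, by rw [toSuz_of, e_singleton]; rfl⟩
    · exact ⟨_, ⟨.c, rfl⟩, by rw [toSuz_of, e_singleton]; rfl⟩
    · exact ⟨_, ⟨.d, rfl⟩, by rw [toSuz_of, e_singleton]; rfl⟩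
    · exact ⟨_, ⟨.e, rfl⟩, by rw [toSuz_of, e_singleton]; rfl⟩

theorem tab0_moves : applyT 11 2048 [tab0] 2 ≠ 2 := by decide +kernel

theorem toSuz_a_ne : toSuz (PresentedGroup.of .a) ≠ 1 := by
  intro h
  rw [toSuz_of] at h
  have h1 : φ (e [0]) = 1 := by
    rw [e_singleton]
    change φ (fJ .a) = 1
    rw [h, map_one]
  rw [φ_e] at h1
  have h2 := fix_of_apply' (tw [0]) (good_tw [0]) ⟨2, by decide⟩
  have h3 : ((tw [0]).map (σ 11 2048 1782)).prod⁻¹ (⟨2, by decide⟩ : Fin 1782) = ⟨2, by decide⟩ := by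
    rw [h1]; rfl
  have h4 := prod_reverse_apply 11 2048 1782 (tw [0]) (good_tw [0]) ⟨2, by decide⟩
  rw [prod_reverse_of_invol_list _ (by
    intro g hg'
    obtain ⟨t, -, rfl⟩ := List.mem_map.mp hg'
    exact σ_mul_self _ _ _ t), h3] at h4
  exact tab0_moves h4.symm

theorem toSuz_injective : Function.Injective toSuz := by
  have hs : IsSimpleGroup P := Cfsg.Agent.Lib.H17.J2PSimple.simple
  rcases hs.eq_bot_or_eq_top_of_normal toSuz.ker inferInstance with h | h
  · exact (MonoidHom.ker_eq_bot_iff toSuz).mp h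
  · exfalso
    have h1 : (PresentedGroup.of .a : P) ∈ toSuz.ker := by
      rw [h]
      exact Subgroup.mem_top _
    exact toSuz_a_ne (MonoidHom.mem_ker.mp h1)

/-- `J` is the presented Hall-Janko group -/
noncomputable def isoJ : P ≃* J :=
  (MonoidHom.ofInjective toSuz_injective).trans (MulEquiv.subgroupCongr range_toSuz)

theorem card_J : Nat.card J = 604800 := by
  rw [← Nat.card_congr isoJ.toEquiv]
  exact Cfsg.Agent.Lib.H17.J2Ord.card_eq

attribute [local instance] Cfsg.Agent.Lib.H17.SuzOrd.finite_G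

theorem card_K : Nat.card K = 251596800 := by
  have h := Subgroup.card_mul_index K
  rw [index_eq, Cfsg.Agent.Lib.H17.SuzOrd.card_eq] at h
  omega

/-- the stabiliser of `p` in `K` has order 604800 -/
theorem card_stab : Nat.card (K ⊓ stabilizer G p : Subgroup G) = 604800 := by
  have h1 : (K ⊓ stabilizer G p).relIndex K = 416 := by
    have e2 : (K ⊓ stabilizer G p).relIndex K = (stabilizer G p).relIndex K := by
      rw [inf_comm]
      exact Subgroup.inf_relIndex_right _ _
    rw [e2, relIndex_stabilizer K p, orbit_K_p, ncard_mask, ocount0]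
  have h2 := Subgroup.relIndex_mul_relIndex ⊥ (K ⊓ stabilizer G p) K bot_le inf_le_left
  rw [Subgroup.relIndex_bot_left, Subgroup.relIndex_bot_left, h1, card_K] at h2
  omega

/-- `J` is the stabiliser of `p` in `K` -/
theorem J_eq : J = K ⊓ stabilizer G p := by
  have hle : J ≤ K ⊓ stabilizer G p := le_inf J_le_K J_fix
  apply le_antisymm hle
  intro g hg
  have hcard : Nat.card J = Nat.card (K ⊓ stabilizer G p : Subgroup G) := by
    rw [card_J, card_stab]
  have := Subgroup.eq_of_le_of_card_ge hle (le_of_eq hcard.symm)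
  rw [this]
  exact hg

end Cfsg.Agent.Lib.H17.G2J2
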