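import Cfsg.Agent.Lib.H17.G2J2.Data
import Cfsg.Agent.Lib.H17.ExtPrim
import Cfsg.Agent.Lib.H17.SuzOrd.Order
import Cfsg.Agent.Lib.H17.J2Ord.Simple

set_option autoImplicit false
set_option maxRecDepth 100000

/-! # The Hall-Janko subgroup of G2(4) inside the presented sporadic Suzuki group

`K = ⟨a, …, f⟩` is G2(4), the stabiliser of the point `0` of the 1782 cosets; `J = ⟨a, …, e⟩` is the
stabiliser in `K` of the point `995`.  `J` is a maximal subgroup of `K`, and the stabilisers in `J`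
of the further points of the orbit of `995` under `K` are maximal subgroups of `J`. -/

namespace Cfsg.Agent.Lib.H17.G2J2

open Cfsg.Spor Cfsg.Agent.Lib.H17.CosetCert Cfsg.Agent.Lib.H17.CoxGlue Cfsg.Agent.Lib.H17.SuzGlue
  Cfsg.Agent.Lib.H17.SuzG24 Cfsg.Agent.Lib.H17.Masks Cfsg.Agent.Lib.H17.ExtPrim MulAction

/-- the action on the 1782 points -/
noncomputable local instance actInst : MulAction G (Fin 1782) := MulAction.compHom (Fin 1782) φ

theorem smul_eq (g : G) (i : Fin 1782) : g • i = φ g i := rfl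

/-- the element of a word -/
noncomputable def e (w : List ℕ) : G := (w.map fun x => PresentedGroup.of (gen x)).prod

theorem e_nil : e [] = 1 := rfl

theorem e_cons (x : ℕ) (w : List ℕ) : e (x :: w) = PresentedGroup.of (gen x) * e w := by
  unfold e
  rw [List.map_cons, List.prod_cons]

theorem φ_e (w : List ℕ) : φ (e w) = ((tw w).map (σ 11 2048 1782)).prod := by
  induction w with
  | nil => simp [e, tw]
  | cons x w ih =>
    rw [e_cons, map_mul, ih, φ_of]
    simp only [tw, List.map_cons, List.prod_cons]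
    rfl

theorem good_tw (w : List ℕ) : ∀ t ∈ tw w, Good 11 2048 1782 t := good_of_word w

/-- the elements of a list of words -/
def gset (W : List (List ℕ)) : Set G := {g | ∃ w ∈ W, g = e w}

/-- the subgroup generated by the elements of a list of words -/
noncomputable def sub (W : List (List ℕ)) : Subgroup G := Subgroup.closure (gset W)

theorem e_mem_sub {W : List (List ℕ)} {w : List ℕ} (h : w ∈ W) : e w ∈ sub W :=
  Subgroup.subset_closure ⟨w, h, rfl⟩

/-- the orbit of a point under the subgroup of a list of words -/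
theorem orbit_sub (W : List (List ℕ)) (T : List (List ℕ)) (hT : T = W.map tw) (mask hr : ℕ)
    (p : Fin 1782) (hp : tb mask p = true) (hcl : checkClosed 11 2048 mask T 1782 = true)
    (hcn : checkOrbConn 11 2048 mask hr p T 1782 = true) :
    {i : Fin 1782 | ∃ h ∈ sub W, h • p = i} = {i : Fin 1782 | tb mask i = true} := by
  subst hT
  apply orbit_eq_mask 11 2048 1782 φ (gset W) mask hr p (W.map tw) _ _ _ hp hcl hcn
  · intro ts hts
    obtain ⟨w, -, rfl⟩ := List.mem_map.mp hts
    exact good_tw w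
  · rintro s ⟨w, hw, rfl⟩
    exact ⟨tw w, List.mem_map_of_mem hw, φ_e w⟩
  · intro ts hts
    obtain ⟨w, hw, rfl⟩ := List.mem_map.mp hts
    exact ⟨e w, ⟨w, hw, rfl⟩, φ_e w⟩

/-- a subgroup with a given orbit is transitive on it -/
theorem trans_of_orbit (A : Subgroup G) (p : Fin 1782) (mask : ℕ)
    (h : {i : Fin 1782 | ∃ g ∈ A, g • p = i} = {i : Fin 1782 | tb mask i = true})
    (x y : Fin 1782) (hx : tb mask x = true) (hy : tb mask y = true) :
    ∃ s ∈ A, s • x = y := by
  have hx' : x ∈ {i : Fin 1782 | ∃ g ∈ A, g • p = i} := by rw [h]; exact hx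
  have hy' : y ∈ {i : Fin 1782 | ∃ g ∈ A, g • p = i} := by rw [h]; exact hy
  obtain ⟨g1, hg1, rfl⟩ := hx'
  obtain ⟨g2, hg2, rfl⟩ := hy'
  exact ⟨g2 * g1⁻¹, A.mul_mem hg2 (A.inv_mem hg1), by rw [mul_smul, inv_smul_smul]⟩

/-- the orbit of another point of the orbit -/
theorem orbit_of_mem (A : Subgroup G) (p q : Fin 1782) (mask : ℕ)
    (h : {i : Fin 1782 | ∃ g ∈ A, g • p = i} = {i : Fin 1782 | tb mask i = true})
    (hq : tb mask q = true) :
    {i : Fin 1782 | ∃ g ∈ A, g • q = i} = {i : Fin 1782 | tb mask i = true} := by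
  have hq' : q ∈ {i : Fin 1782 | ∃ g ∈ A, g • p = i} := by rw [h]; exact hq
  obtain ⟨g0, hg0, rfl⟩ := hq'
  rw [← h]
  ext i
  constructor
  · rintro ⟨g, hg, rfl⟩
    exact ⟨g * g0, A.mul_mem hg hg0, mul_smul _ _ _⟩
  · rintro ⟨g, hg, rfl⟩
    exact ⟨g * g0⁻¹, A.mul_mem hg (A.inv_mem hg0), by rw [mul_smul, inv_smul_smul]⟩

theorem fix_of_apply' (ts : List ℕ) (hg : ∀ t ∈ ts, Good 11 2048 1782 t) (q : Fin 1782)
    (h : applyT 11 2048 ts q = q) : (ts.map (σ 11 2048 1782)).prod q = q := by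
  have h1 : ((ts.map (σ 11 2048 1782)).reverse.prod) q = q := by
    apply Fin.ext
    rw [prod_reverse_apply 11 2048 1782 ts hg q]
    exact h
  rw [prod_reverse_of_invol_list _ (by
    intro g hg'
    obtain ⟨t, -, rfl⟩ := List.mem_map.mp hg'
    exact σ_mul_self _ _ _ t)] at h1
  have h2 : (ts.map (σ 11 2048 1782)).prod (((ts.map (σ 11 2048 1782)).prod)⁻¹ q) = q := by simp
  rw [h1] at h2
  exact h2

/-- the subgroup of a list of words fixes a point fixed by the words -/
theorem sub_le_stabilizer (W : List (List ℕ)) (T : List (List ℕ)) (hT : T = W.map tw)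
    (q : Fin 1782) (hfix : T.all (fun ts => Nat.beq (applyT 11 2048 ts q) q) = true) :
    sub W ≤ stabilizer G q := by
  subst hT
  unfold sub
  rw [Subgroup.closure_le]
  rintro s ⟨w, hw, rfl⟩
  rw [SetLike.mem_coe, mem_stabilizer_iff, smul_eq, φ_e]
  apply fix_of_apply' _ (good_tw w)
  exact Nat.eq_of_beq_eq_true (List.all_eq_true.mp hfix _ (List.mem_map_of_mem hw))

/-! ## The subgroups -/

/-- the subgroup `K = ⟨a, …, f⟩` -/
abbrev K : Subgroup G := Cfsg.Agent.Lib.H17.SuzG24.H

/-- the subgroup `J = ⟨a, …, e⟩` -/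
noncomputable def J : Subgroup G := sub jW

/-- a subgroup of the stabiliser in `J` of the point `47` -/
noncomputable def S1 : Subgroup G := sub s1W

/-- a subgroup of the stabiliser in `J` of the point `81` -/
noncomputable def S2 : Subgroup G := sub s2W

/-- the point fixed by `J` -/
def p : Fin 1782 := ⟨995, by decide⟩

/-- a point of the orbit of length 100 -/
def q1 : Fin 1782 := ⟨47, by decide⟩

/-- a point of the orbit of length 315 -/
def q2 : Fin 1782 := ⟨81, by decide⟩

theorem J_fix : J ≤ stabilizer G p := sub_le_stabilizer jW jT jT_eq p jfix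

theorem S1_fix : S1 ≤ stabilizer G q1 := sub_le_stabilizer s1W s1T s1T_eq q1 s1fix

theorem S2_fix : S2 ≤ stabilizer G q2 := sub_le_stabilizer s2W s2T s2T_eq q2 s2fix

theorem e_singleton (x : ℕ) : e [x] = PresentedGroup.of (gen x) := by
  rw [e_cons, e_nil, mul_one]

theorem of_mem_K (u : Gen) (hu : u ≠ .g) : (PresentedGroup.of u : G) ∈ K := by
  refine ⟨FreeGroup.of u, Subgroup.subset_closure ?_, rfl⟩
  cases u <;> simp [S] at hu ⊢

theorem J_le_K : J ≤ K := by
  unfold J sub
  rw [Subgroup.closure_le]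
  rintro s ⟨w, hw, rfl⟩
  simp only [jW, List.mem_cons, List.not_mem_nil, or_false] at hw
  rcases hw with rfl | rfl | rfl | rfl | rfl <;> rw [e_singleton] <;> exact of_mem_K _ (by decide)

/-- a word in the letters `a, …, e` lies in `J` -/
theorem e_mem_J (w : List ℕ) (h : ∀ x ∈ w, x < 5) : e w ∈ J := by
  induction w with
  | nil => rw [e_nil]; exact J.one_mem
  | cons x w ih =>
    rw [e_cons]
    refine J.mul_mem ?_ (ih fun y hy => h y (List.mem_cons_of_mem _ hy))
    have hx : x < 5 := h x (List.mem_cons_self ..)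
    rw [← e_singleton]
    apply e_mem_sub
    interval_cases x <;> simp [jW]

theorem S1_le_J : S1 ≤ J := by
  unfold S1 sub
  rw [Subgroup.closure_le]
  rintro s ⟨w, hw, rfl⟩
  exact e_mem_J w (by revert w; decide)

theorem S2_le_J : S2 ≤ J := by
  unfold S2 sub
  rw [Subgroup.closure_le]
  rintro s ⟨w, hw, rfl⟩
  exact e_mem_J w (by revert w; decide)

/-! ## The orbits -/

theorem orbit_K_q1 : {i : Fin 1782 | ∃ h ∈ K, h • q1 = i} = {i : Fin 1782 | tb omask0 i = true} := by
  have h := orbit_eq_mask 11 2048 1782 φ S' omask0 hr q1 sgT good_sgT S'_words words_S' obase0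
    oclosed0 oconn0
  rw [← H_eq] at h
  exact h

theorem orbit_K_p : {i : Fin 1782 | ∃ h ∈ K, h • p = i} = {i : Fin 1782 | tb omask0 i = true} :=
  orbit_of_mem K q1 p omask0 orbit_K_q1 omask0_995

theorem orbit_J_q1 : {i : Fin 1782 | ∃ h ∈ J, h • q1 = i} = {i : Fin 1782 | tb jmask0 i = true} :=
  orbit_sub jW jT jT_eq jmask0 jhr q1 jbase0 jclosed0 jconn0

theorem orbit_J_q2 : {i : Fin 1782 | ∃ h ∈ J, h • q2 = i} = {i : Fin 1782 | tb jmask1 i = true} :=
  orbit_sub jW jT jT_eq jmask1 jhr q2 jbase1 jclosed1 jconn1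

theorem orbit_S1_0 : {i : Fin 1782 | ∃ h ∈ S1, h • (⟨79, by decide⟩ : Fin 1782) = i} =
    {i : Fin 1782 | tb s1mask0 i = true} :=
  orbit_sub s1W s1T s1T_eq s1mask0 s1hr ⟨79, by decide⟩ s1base0 s1closed0 s1conn0

theorem orbit_S1_1 : {i : Fin 1782 | ∃ h ∈ S1, h • (⟨72, by decide⟩ : Fin 1782) = i} =
    {i : Fin 1782 | tb s1mask1 i = true} :=
  orbit_sub s1W s1T s1T_eq s1mask1 s1hr ⟨72, by decide⟩ s1base1 s1closed1 s1conn1

theorem orbit_S2_0 : {i : Fin 1782 | ∃ h ∈ S2, h • (⟨82, by decide⟩ : Fin 1782) = i} =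
    {i : Fin 1782 | tb s2mask0 i = true} :=
  orbit_sub s2W s2T s2T_eq s2mask0 s2hr ⟨82, by decide⟩ s2base0 s2closed0 s2conn0

theorem orbit_S2_1 : {i : Fin 1782 | ∃ h ∈ S2, h • (⟨116, by decide⟩ : Fin 1782) = i} =
    {i : Fin 1782 | tb s2mask1 i = true} :=
  orbit_sub s2W s2T s2T_eq s2mask1 s2hr ⟨116, by decide⟩ s2base1 s2closed1 s2conn1

theorem orbit_S2_2 : {i : Fin 1782 | ∃ h ∈ S2, h • (⟨117, by decide⟩ : Fin 1782) = i} =
    {i : Fin 1782 | tb s2mask2 i = true} :=
  orbit_sub s2W s2T s2T_eq s2mask2 s2hr ⟨117, by decide⟩ s2base2 s2closed2 s2conn2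

theorem orbit_S2_3 : {i : Fin 1782 | ∃ h ∈ S2, h • (⟨127, by decide⟩ : Fin 1782) = i} =
    {i : Fin 1782 | tb s2mask3 i = true} :=
  orbit_sub s2W s2T s2T_eq s2mask3 s2hr ⟨127, by decide⟩ s2base3 s2closed3 s2conn3

theorem orbit_S2_4 : {i : Fin 1782 | ∃ h ∈ S2, h • (⟨178, by decide⟩ : Fin 1782) = i} =
    {i : Fin 1782 | tb s2mask4 i = true} :=
  orbit_sub s2W s2T s2T_eq s2mask4 s2hr ⟨178, by decide⟩ s2base4 s2closed4 s2conn4

/-! ## Maximality -/

theorem tb_shiftLeft_one (k x : ℕ) : tb (Nat.shiftLeft 1 k) x = decide (k = x) := by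
  rw [tb_eq_testBit]
  change Nat.testBit (1 <<< k) x = _
  rw [Nat.one_shiftLeft, Nat.testBit_two_pow]

/-- the subgroups between a point stabiliser and the group, from masks -/
theorem between_of_masks (A S : Subgroup G) (q : Fin 1782) (hS : S ≤ A ⊓ stabilizer G q) (big : ℕ)
    (hO : {i : Fin 1782 | ∃ g ∈ A, g • q = i} = {i : Fin 1782 | tb big i = true}) {r : ℕ}
    (masks : Fin r → ℕ) (sz : Fin r → ℕ) (b : Fin r → Fin 1782) (N : ℕ)
    (horb : ∀ j, {i : Fin 1782 | ∃ h ∈ S, h • b j = i} = {i : Fin 1782 | tb (masks j) i = true})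
    (hcount : ∀ j, countBits (masks j) 1782 0 = sz j)
    (hcov : ∀ x : Fin 1782, tb big x = true → x ≠ q → ∃ j, tb (masks j) x = true)
    (hdisj : ∀ i j, i ≠ j → Nat.land (masks i) (masks j) = 0)
    (hq : ∀ j, tb (masks j) q = false)
    (hN : countBits big 1782 0 = N)
    (harith : ∀ J : Finset (Fin r), (1 + ∑ j ∈ J, sz j) ∣ N → J = ∅ ∨ J = Finset.univ)
    (M : Subgroup G) (h1 : A ⊓ stabilizer G q ≤ M) (h2 : M ≤ A) :
    M = A ⊓ stabilizer G q ∨ M = A := by
  apply between_stabilizer A q S hS _ M h1 h2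
  intro B hqB hBO hSB hdvd
  apply invariant_of_masks S q _ masks sz N hcount _ hdisj hq _ _ harith B hqB hBO hSB hdvd
  · intro x hx hxq
    rw [hO] at hx
    exact hcov x hx hxq
  · intro j x y hx hy
    exact trans_of_orbit S (b j) (masks j) (horb j) x y hx hy
  · rw [hO, ncard_mask, hN]

theorem cover_K (x : Fin 1782) (h : tb omask0 x = true) (hx : x ≠ p) :
    tb jmask0 x = true ∨ tb jmask1 x = true := by
  rw [← junion, tb_lor, tb_lor, tb_shiftLeft_one] at h
  simp only [Bool.or_eq_true, decide_eq_true_eq] at h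
  rcases h with (h | h) | h
  · exact Or.inl h
  · exact Or.inr h
  · exact absurd (Fin.ext h.symm) hx

theorem cover_J1 (x : Fin 1782) (h : tb jmask0 x = true) (hx : x ≠ q1) :
    tb s1mask0 x = true ∨ tb s1mask1 x = true := by
  rw [← s1union, tb_lor, tb_lor, tb_shiftLeft_one] at h
  simp only [Bool.or_eq_true, decide_eq_true_eq] at h
  rcases h with (h | h) | h
  · exact Or.inl h
  · exact Or.inr h
  · exact absurd (Fin.ext h.symm) hx

theorem cover_J2 (x : Fin 1782) (h : tb jmask1 x = true) (hx : x ≠ q2) :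
    tb s2mask0 x = true ∨ tb s2mask1 x = true ∨ tb s2mask2 x = true ∨ tb s2mask3 x = true ∨
      tb s2mask4 x = true := by
  rw [← s2union, tb_lor, tb_lor, tb_lor, tb_lor, tb_lor, tb_shiftLeft_one] at h
  simp only [Bool.or_eq_true, decide_eq_true_eq] at h
  rcases h with ((((h | h) | h) | h) | h) | h
  · exact Or.inl h
  · exact Or.inr (Or.inl h)
  · exact Or.inr (Or.inr (Or.inl h))
  · exact Or.inr (Or.inr (Or.inr (Or.inl h)))
  · exact Or.inr (Or.inr (Or.inr (Or.inr h)))
  · exact absurd (Fin.ext h.symm) hx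

/-- the subgroups between the stabiliser of `p` in `K` and `K` -/
theorem between_K (M : Subgroup G) (h1 : K ⊓ stabilizer G p ≤ M) (h2 : M ≤ K) :
    M = K ⊓ stabilizer G p ∨ M = K := by
  apply between_of_masks K J p (le_inf J_le_K J_fix) omask0 orbit_K_p ![jmask0, jmask1] ![100, 315]
    ![q1, q2] 416 _ _ _ _ _ ocount0 (by decide) M h1 h2
  · intro j
    fin_cases j
    · exact orbit_J_q1
    · exact orbit_J_q2
  · intro j
    fin_cases j
    · exact jcount0
    · exact jcount1
  · intro x hx hxp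
    rcases cover_K x hx hxp with h | h
    · exact ⟨0, h⟩
    · exact ⟨1, h⟩
  · intro i j hij
    fin_cases i <;> fin_cases j
    · exact absurd rfl hij
    · exact jdisj0_1
    · exact jdisj1_0
    · exact absurd rfl hij
  · intro j
    fin_cases j
    · exact jfixbit0
    · exact jfixbit1

/-- the subgroups between the stabiliser of `q1` in `J` and `J` -/
theorem between_J1 (M : Subgroup G) (h1 : J ⊓ stabilizer G q1 ≤ M) (h2 : M ≤ J) :
    M = J ⊓ stabilizer G q1 ∨ M = J := by
  apply between_of_masks J S1 q1 (le_inf S1_le_J S1_fix) jmask0 orbit_J_q1 ![s1mask0, s1mask1]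
    ![36, 63] ![⟨79, by decide⟩, ⟨72, by decide⟩] 100 _ _ _ _ _ jcount0 (by decide) M h1 h2
  · intro j
    fin_cases j
    · exact orbit_S1_0
    · exact orbit_S1_1
  · intro j
    fin_cases j
    · exact s1count0
    · exact s1count1
  · intro x hx hxp
    rcases cover_J1 x hx hxp with h | h
    · exact ⟨0, h⟩
    · exact ⟨1, h⟩
  · intro i j hij
    fin_cases i <;> fin_cases j
    · exact absurd rfl hij
    · exact s1disj0_1
    · exact s1disj1_0
    · exact absurd rfl hij
  · intro j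
    fin_cases j
    · exact s1fixbit0
    · exact s1fixbit1

/-- the subgroups between the stabiliser of `q2` in `J` and `J` -/
theorem between_J2 (M : Subgroup G) (h1 : J ⊓ stabilizer G q2 ≤ M) (h2 : M ≤ J) :
    M = J ⊓ stabilizer G q2 ∨ M = J := by
  apply between_of_masks J S2 q2 (le_inf S2_le_J S2_fix) jmask1 orbit_J_q2
    ![s2mask0, s2mask1, s2mask2, s2mask3, s2mask4] ![10, 32, 32, 80, 160]
    ![⟨82, by decide⟩, ⟨116, by decide⟩, ⟨117, by decide⟩, ⟨127, by decide⟩, ⟨178, by decide⟩] 315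
    _ _ _ _ _ jcount1 (by decide) M h1 h2
  · intro j
    fin_cases j
    · exact orbit_S2_0
    · exact orbit_S2_1
    · exact orbit_S2_2
    · exact orbit_S2_3
    · exact orbit_S2_4
  · intro j
    fin_cases j
    · exact s2count0
    · exact s2count1
    · exact s2count2
    · exact s2count3
    · exact s2count4
  · intro x hx hxp
    rcases cover_J2 x hx hxp with h | h | h | h | h
    · exact ⟨0, h⟩
    · exact ⟨1, h⟩
    · exact ⟨2, h⟩
    · exact ⟨3, h⟩
    · exact ⟨4, h⟩
  · intro i j hij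
    fin_cases i <;> fin_cases j
    · exact absurd rfl hij
    · exact s2disj0_1
    · exact s2disj0_2
    · exact s2disj0_3
    · exact s2disj0_4
    · exact s2disj1_0
    · exact absurd rfl hij
    · exact s2disj1_2
    · exact s2disj1_3
    · exact s2disj1_4
    · exact s2disj2_0
    · exact s2disj2_1
    · exact absurd rfl hij
    · exact s2disj2_3
    · exact s2disj2_4
    · exact s2disj3_0
    · exact s2disj3_1
    · exact s2disj3_2
    · exact absurd rfl hij
    · exact s2disj3_4
    · exact s2disj4_0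
    · exact s2disj4_1
    · exact s2disj4_2
    · exact s2disj4_3
    · exact absurd rfl hij
  · intro j
    fin_cases j
    · exact s2fixbit0
    · exact s2fixbit1
    · exact s2fixbit2
    · exact s2fixbit3
    · exact s2fixbit4

end Cfsg.Agent.Lib.H17.G2J2
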