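import Cfsg.Agent.Lib.H17.G2J2.Final
import Cfsg.Agent.Lib.H17.G2Main
import Cfsg.Agent.Lib.H17.ChevBC
import Cfsg.Agent.Lib.H3.J2.Bridge

set_option autoImplicit false
set_option maxRecDepth 100000

/-! # G2(4) acts extremely primitively on the cosets of a Hall-Janko subgroup -/

namespace Cfsg.Agent.Lib.H17.G2J2

open Cfsg.Spor Cfsg.Agent.Lib.H17.SuzG24 Cfsg.Agent.Lib.H17.ExtPrim

theorem main {F : Type*} [Field F] [Fintype F] (hF : Fintype.card F = 4) :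
    ∃ H : Subgroup (Cfsg.Lie.chevG2.group F), IsCoatom H ∧ Cfsg.Spor.IsoJ2 H ∧
      ∀ x : Cfsg.Lie.chevG2.group F, x ∉ H →
        IsCoatom ((H ⊓ H.map (MulAut.conj x).toMonoidHom).subgroupOf H) := by
  obtain ⟨ψ0⟩ := Cfsg.Agent.Lib.H17.G2Main.main
  let e : F ≃+* Cfsg.Agent.Lib.H17.F4 := FiniteField.ringEquivOfCardEq
    (by rw [hF, Cfsg.Agent.Lib.H17.F4.card_eq])
  let ψ : Cfsg.Lie.chevG2.group F ≃* K :=
    (Cfsg.Agent.Lib.H17.ChevBC.groupEquiv Cfsg.Lie.chevG2 e).trans ψ0.symm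
  let θ : Cfsg.Lie.chevG2.group F →* G := K.subtype.comp ψ.toMonoidHom
  have hθ : Function.Injective θ := fun a b h => ψ.injective (Subtype.ext h)
  have hK : θ.range = K := by
    ext g
    constructor
    · rintro ⟨a, rfl⟩
      exact (ψ a).2
    · intro hg
      exact ⟨ψ.symm ⟨g, hg⟩, by simp [θ]⟩
  obtain ⟨c1, c2, ⟨e3⟩⟩ := transport θ hθ K J hK J_le_K J_ne_K between_JK between_inf
  exact ⟨J.comap θ, c1, ⟨e3.trans (isoJ.symm.trans Cfsg.Agent.Lib.H3.J2.presEquivJ2)⟩, c2⟩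

end Cfsg.Agent.Lib.H17.G2J2
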